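import Groth.Prelude.Def_QuotSh
import Groth.Prelude.Def_W4stkflatp2Frob
import Mathlib

/-!
# Sections up to `p`-th powers on quasi-compact and quasi-separated schemes
-/

set_option autoImplicit false
set_option linter.style.haveILetI false
set_option backward.isDefEq.respectTransparency false
set_option backward.isDefEq.respectTransparency.types false

universe u

open CategoryTheory CategoryTheory.Limits AlgebraicGeometry TopologicalSpace Opposite

noncomputable section

namespace Groth.Agent.HTopFrob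

variable {p : ℕ}

open HTop (FrobColimSections FrobColimRel)

/-- Raising the level. -/
theorem mk_raise {X : Scheme.{u}} (n i : ℕ) (a : Γ(X, ⊤)) :
    FrobColimSections.mk p n a = FrobColimSections.mk p (n + i) (a ^ p ^ i) := by
  induction i with
  | zero => simp
  | succ i ih =>
    rw [ih, FrobColimSections.sound p (n + i), ← pow_mul, ← pow_succ]
    rfl

/-- Two representatives define the same class exactly when they agree at a common level. -/
theorem mk_eq_mk_iff {X : Scheme.{u}} (n m : ℕ) (a b : Γ(X, ⊤)) :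
    FrobColimSections.mk p n a = FrobColimSections.mk p m b ↔
      ∃ i j : ℕ, n + i = m + j ∧ a ^ p ^ i = b ^ p ^ j := by
  constructor
  · intro h
    have h' : Relation.EqvGen (FrobColimRel p X) (n, a) (m, b) := Quot.eqvGen_exact h
    suffices key : ∀ x y : ℕ × Γ(X, ⊤), Relation.EqvGen (FrobColimRel p X) x y →
        ∃ i j : ℕ, x.1 + i = y.1 + j ∧ x.2 ^ p ^ i = y.2 ^ p ^ j from key _ _ h'
    intro x y h
    induction h with
    | rel x y h =>
      obtain rfl : y = (x.1 + 1, x.2 ^ p) := h
      exact ⟨1, 0, rfl, by simp⟩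
    | refl x => exact ⟨0, 0, rfl, rfl⟩
    | symm x y _ ih =>
      obtain ⟨i, j, h1, h2⟩ := ih
      exact ⟨j, i, h1.symm, h2.symm⟩
    | trans x y z _ _ ih ih' =>
      obtain ⟨i, j, h1, h2⟩ := ih
      obtain ⟨j', k, h1', h2'⟩ := ih'
      refine ⟨i + j', k + j, by omega, ?_⟩
      rw [pow_add, pow_mul, h2, ← pow_mul, mul_comm, pow_mul, h2', ← pow_mul, ← pow_add]
  · rintro ⟨i, j, h1, h2⟩
    rw [mk_raise n i a, mk_raise m j b, h1, h2]

theorem exists_mk {X : Scheme.{u}} (x : FrobColimSections p X) :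
    ∃ (n : ℕ) (a : Γ(X, ⊤)), x = FrobColimSections.mk p n a := by
  induction x using Quot.ind with
  | mk y => exact ⟨y.1, y.2, rfl⟩

/-- A family of classes has representatives in one level. -/
theorem exists_level {ι : Type*} [Finite ι] {X : ι → Scheme.{u}} (x : ∀ i, FrobColimSections p (X i)) :
    ∃ (N : ℕ) (a : ∀ i, Γ(X i, ⊤)), ∀ i, x i = FrobColimSections.mk p N (a i) := by
  classical
  choose n a ha using fun i => exists_mk (x i)
  haveI := Fintype.ofFinite ι
  refine ⟨Finset.univ.sup n, fun i => a i ^ p ^ (Finset.univ.sup n - n i), fun i => ?_⟩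
  rw [ha i]
  have h := mk_raise (p := p) (n i) (Finset.univ.sup n - n i) (a i)
  rwa [Nat.add_sub_cancel' (Finset.le_sup (Finset.mem_univ i))] at h

theorem pow_eq_of_le {R : Type*} [Monoid R] {a b : R} {i k : ℕ} (h : a ^ p ^ i = b ^ p ^ i) (hik : i ≤ k) :
    a ^ p ^ k = b ^ p ^ k := by
  obtain ⟨d, rfl⟩ := Nat.exists_eq_add_of_le hik
  rw [pow_add, pow_mul, h, ← pow_mul, ← pow_add]

/-- Equality of classes in a common level. -/
theorem mk_eq_mk_same {X : Scheme.{u}} (n : ℕ) (a b : Γ(X, ⊤)) :
    FrobColimSections.mk p n a = FrobColimSections.mk p n b ↔ ∃ i : ℕ, a ^ p ^ i = b ^ p ^ i := by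
  rw [mk_eq_mk_iff]
  constructor
  · rintro ⟨i, j, h1, h2⟩
    obtain rfl : i = j := by omega
    exact ⟨i, h2⟩
  · rintro ⟨i, h⟩
    exact ⟨i, i, rfl, h⟩

variable {S : Scheme.{u}}

/-- An open subscheme as a scheme over the base. -/
abbrev piece (X : Over S) (U : X.left.Opens) : Over S := Over.mk (U.ι ≫ X.hom)

/-- Its inclusion. -/
abbrev incl (X : Over S) (U : X.left.Opens) : piece X U ⟶ X := Over.homMk U.ι rfl

theorem topIso_homOfLE {X : Scheme.{u}} {W U : X.Opens} (h : W ≤ U) (s : Γ(U.toScheme, ⊤)) :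
    W.topIso.hom ((X.homOfLE h).appTop s) = (X.presheaf.map (homOfLE h).op).hom (U.topIso.hom s) := by
  have e : (X.homOfLE h).appTop ≫ W.topIso.hom = U.topIso.hom ≫ X.presheaf.map (homOfLE h).op := by
    simp [Scheme.Opens.topIso, ← Functor.map_comp]
  exact congrArg (fun m => m.hom s) e

theorem topIso_ι {X : Scheme.{u}} (U : X.Opens) (s : Γ(X, ⊤)) :
    U.topIso.hom (U.ι.appTop s) = (X.presheaf.map (homOfLE (le_top : U ≤ ⊤)).op).hom s := by
  have e : U.ι.appTop ≫ U.topIso.hom = X.presheaf.map (homOfLE (le_top : U ≤ ⊤)).op := by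
    simp [Scheme.Opens.topIso, ← Functor.map_comp]
  exact congrArg (fun m => m.hom s) e

/-- Classes are determined on a finite open cover. -/
theorem eq_of_cover {X : Scheme.{u}} {ι : Type*} [Finite ι] (U : ι → X.Opens) (hU : ⨆ i, U i = ⊤)
    {x y : FrobColimSections p X}
    (h : ∀ i, FrobColimSections.map p (U i).ι x = FrobColimSections.map p (U i).ι y) : x = y := by
  classical
  obtain ⟨N, a, ha⟩ := exists_level (fun b : Bool => bif b then x else y)
  obtain ⟨hx, hy⟩ : x = _ ∧ y = _ := ⟨ha true, ha false⟩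
  rw [hx, hy] at h ⊢
  simp only [FrobColimSections.map_mk, mk_eq_mk_same] at h
  choose k hk using h
  haveI := Fintype.ofFinite ι
  rw [mk_eq_mk_same]
  refine ⟨Finset.univ.sup k, X.sheaf.eq_of_locally_eq' U ⊤ (fun i => homOfLE le_top) hU.ge _ _ fun i => ?_⟩
  have h2 := congrArg (U i).topIso.hom (pow_eq_of_le (hk i) (Finset.le_sup (Finset.mem_univ i) (f := k)))
  rw [map_pow, map_pow, topIso_ι, topIso_ι] at h2
  exact (map_pow _ _ _).trans (h2.trans (map_pow _ _ _).symm)

/-- Classes glue on a finite open cover with quasi-compact overlaps. -/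
theorem exists_glue {X : Scheme.{u}} [CompactSpace X] [QuasiSeparatedSpace X] {ι : Type*} [Finite ι]
    (U : ι → X.Opens) (hU : ⨆ i, U i = ⊤) (x : ∀ i, FrobColimSections p (U i).toScheme)
    (h : ∀ i j, FrobColimSections.map p (X.homOfLE (inf_le_left : U i ⊓ U j ≤ U i)) (x i) =
      FrobColimSections.map p (X.homOfLE (inf_le_right : U i ⊓ U j ≤ U j)) (x j)) :
    ∃ y : FrobColimSections p X, ∀ i, FrobColimSections.map p (U i).ι y = x i := by
  classical
  obtain ⟨N, a, ha⟩ := exists_level x
  simp only [ha, FrobColimSections.map_mk, mk_eq_mk_same] at h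
  choose k hk using h
  haveI := Fintype.ofFinite ι
  let K := Finset.univ.sup fun q : ι × ι => k q.1 q.2
  let sf : ∀ i, Γ(X, U i) := fun i => (U i).topIso.hom (a i ^ p ^ K)
  obtain ⟨s, hs, -⟩ := X.sheaf.existsUnique_gluing' U ⊤ (fun i => homOfLE le_top) hU.ge sf (fun i j => by
    have hle : k i j ≤ K := Finset.le_sup (f := fun q : ι × ι => k q.1 q.2) (Finset.mem_univ (i, j))
    have h2 := congrArg (U i ⊓ U j).topIso.hom (pow_eq_of_le (hk i j) hle)
    rw [← map_pow, ← map_pow, topIso_homOfLE, topIso_homOfLE] at h2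
    exact h2)
  refine ⟨FrobColimSections.mk p (N + K) s, fun i => ?_⟩
  rw [FrobColimSections.map_mk, ha i, mk_raise N K (a i)]
  congr 1
  apply (ConcreteCategory.bijective_of_isIso (U i).topIso.hom).1
  rw [topIso_ι]
  exact hs i

variable (p S) in
/-- The presheaf, lifted one universe. -/
abbrev P : (Over S)ᵒᵖ ⥤ Type (u + 1) := HTop.frobColimPresheaf p S ⋙ uliftFunctor.{u + 1, u}

variable (S) in
/-- The Zariski topology on schemes over the base. -/
abbrev Jz : GrothendieckTopology (Over S) := QuotSh.J Scheme.zariskiPrecoverage S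

/-- A Zariski covering sieve contains a finite affine open cover. -/
theorem exists_finite_cover {X : Over S} [CompactSpace X.left] {R : Sieve X} (hR : R ∈ Jz S X) :
    ∃ (n : ℕ) (U : Fin n → X.left.Opens), (∀ i, IsAffineOpen (U i)) ∧ ⨆ i, U i = ⊤ ∧
      ∀ i, R (incl X (U i)) := by
  classical
  rw [GrothendieckTopology.mem_over_iff] at hR
  have hR' : Sieve.overEquiv X R ∈ Scheme.zariskiTopology X.left := hR
  rw [Scheme.zariskiTopology, Scheme.mem_grothendieckTopology_iff] at hR'
  obtain ⟨𝒰, h𝒰⟩ := hR'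
  have hloc : ∀ x : X.left, ∃ U : X.left.Opens, IsAffineOpen U ∧ x ∈ U ∧ R (incl X U) := by
    intro x
    obtain ⟨k, y, hy⟩ := 𝒰.exists_eq x
    obtain ⟨U, hU, hxU, hUle⟩ := exists_isAffineOpen_mem_and_subset (U := (𝒰.f k).opensRange) (x := x) ⟨y, hy⟩
    have hmem := h𝒰 _ _ (Presieve.ofArrows.mk k)
    have hι : IsOpenImmersion.lift (𝒰.f k) U.ι (by rw [Scheme.Opens.range_ι]; exact hUle) ≫ 𝒰.f k = U.ι :=
      IsOpenImmersion.lift_fac _ _ _
    have h2 := (Sieve.overEquiv X R).downward_closed hmem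
      (IsOpenImmersion.lift (𝒰.f k) U.ι (by rw [Scheme.Opens.range_ι]; exact hUle))
    rw [hι, Sieve.overEquiv_iff] at h2
    exact ⟨U, hU, hxU, h2⟩
  choose U hU hxU hRU using hloc
  obtain ⟨s, hs⟩ := isCompact_univ.elim_finite_subcover (fun x : X.left => (U x : Set X.left)) (fun x => (U x).2)
    fun x _ => Set.mem_iUnion.2 ⟨x, hxU x⟩
  obtain ⟨n, ⟨e⟩⟩ := Finite.exists_equiv_fin {x // x ∈ s}
  refine ⟨n, fun i => U (e.symm i).1, fun i => hU _, top_le_iff.1 fun x _ => ?_, fun i => hRU _⟩
  obtain ⟨z, hz, hxz⟩ := Set.mem_iUnion₂.1 (hs (Set.mem_univ x))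
  exact Opens.mem_iSup.2 ⟨e ⟨z, hz⟩, by simp only [e.symm_apply_apply]; exact hxz⟩

theorem injective_toSheafify (X : Over S) [CompactSpace X.left] :
    Function.Injective (((Jz S).toSheafify (P p S)).app (op X)) := by
  intro x y h
  obtain ⟨n, U, -, hU, hR⟩ := exists_finite_cover
    (Presheaf.equalizerSieve_mem (Jz S) ((Jz S).toSheafify (P p S)) x y h)
  refine ULift.down_injective (eq_of_cover U hU fun i => ?_)
  exact congrArg ULift.down (hR i)

theorem bijective_toSheafify (X : Over S) [CompactSpace X.left] [QuasiSeparatedSpace X.left] :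
    Function.Bijective (((Jz S).toSheafify (P p S)).app (op X)) := by
  refine ⟨injective_toSheafify X, fun t => ?_⟩
  let η := (Jz S).toSheafify (P p S)
  obtain ⟨n, U, hUa, hU, hR⟩ := exists_finite_cover (Presheaf.imageSieve_mem (Jz S) η t)
  choose a ha using hR
  have hcompat : ∀ i j, FrobColimSections.map p (X.left.homOfLE (inf_le_left : U i ⊓ U j ≤ U i)) (a i).down =
      FrobColimSections.map p (X.left.homOfLE (inf_le_right : U i ⊓ U j ≤ U j)) (a j).down := by
    intro i j
    haveI : CompactSpace (piece X (U i ⊓ U j)).left := by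
      refine isCompact_iff_compactSpace.1 ?_
      exact QuasiSeparatedSpace.inter_isCompact _ _ (U i).2 (hUa i).isCompact (U j).2 (hUa j).isCompact
    let ki : piece X (U i ⊓ U j) ⟶ piece X (U i) := Over.homMk (X.left.homOfLE inf_le_left) (by simp)
    let kj : piece X (U i ⊓ U j) ⟶ piece X (U j) := Over.homMk (X.left.homOfLE inf_le_right) (by simp)
    have hk : ki ≫ incl X (U i) = kj ≫ incl X (U j) := by ext; simp [ki, kj]
    refine congrArg ULift.down (injective_toSheafify (piece X (U i ⊓ U j))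
      (a₁ := (P p S).map ki.op (a i)) (a₂ := (P p S).map kj.op (a j)) ?_)
    rw [NatTrans.naturality_apply, NatTrans.naturality_apply]
    change ((Jz S).sheafify (P p S)).map ki.op (η.app _ (a i)) = ((Jz S).sheafify (P p S)).map kj.op (η.app _ (a j))
    rw [ha i, ha j]
    simp only [← Functor.map_comp_apply, ← op_comp]
    exact congrArg (fun m => ((Jz S).sheafify (P p S)).map (Quiver.Hom.op m) t) hk
  obtain ⟨y, hy⟩ := exists_glue U hU (fun i => (a i).down) hcompat
  refine ⟨ULift.up y, ?_⟩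
  have hsh : Presieve.IsSheaf (Jz S) ((Jz S).sheafify (P p S)) :=
    (isSheaf_iff_isSheaf_of_type _ _).1 ((Jz S).sheafify_isSheaf (P p S))
  have hcov : Sieve.generate (Presieve.ofArrows (fun i => piece X (U i)) (fun i => incl X (U i))) ∈ Jz S X := by
    rw [GrothendieckTopology.mem_over_iff]
    refine GrothendieckTopology.superset_covering _ ?_
      (X.left.openCoverOfIsOpenCover U hU).mem_grothendieckTopology
    rw [Sieve.generate_le_iff]
    rintro _ _ ⟨i⟩
    rw [Sieve.overEquiv_iff]
    exact ⟨_, 𝟙 _, _, Presieve.ofArrows.mk i, Category.id_comp _⟩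
  refine ((Presieve.isSheafFor_iff_generate _).2 (hsh _ hcov)).isSeparatedFor.ext ?_
  rintro _ _ ⟨i⟩
  rw [← NatTrans.naturality_apply, ← ha i]
  exact congrArg (η.app _) (ULift.down_injective (hy i))

end Groth.Agent.HTopFrob

end
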