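import Groth.Agent.FlatBlowUp.Apps
import Groth.Agent.AlmostBlow.Basic
import Groth.Agent.AbsApprox.PairLim
import Groth.Prelude.Def_HTop3
import Mathlib

/-!
# Global sections of an almost blow-up square up to `p`-th powers
-/

set_option autoImplicit false
set_option linter.style.haveILetI false
set_option backward.isDefEq.respectTransparency false
set_option backward.isDefEq.respectTransparency.types false

universe u

open CategoryTheory CategoryTheory.Limits AlgebraicGeometry TopologicalSpace Opposite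

noncomputable section

namespace Groth.Agent.HTopFrob

variable {E Z X' X : Scheme.{u}} {e : E ⟶ X'} {π : E ⟶ Z} {b : X' ⟶ X} {i : Z ⟶ X}

theorem isIso_restrict_square (h : HTop.IsAlmostBlowUpSquare e π b i) :
    IsIso (b ∣_ i.ker.support.compl) := by
  let 𝓙 := i.ker.comap b
  let w := (HTop.supportedOn 𝓙).subschemeι
  haveI h1 : IsIso ((w ≫ b) ∣_ i.ker.support.compl) := BlowUpLib.isIso_restrict h.isBlowUp
  rw [morphismRestrict_comp] at h1
  have e1 : b ⁻¹ᵁ i.ker.support.compl = HTop.awayFrom 𝓙 :=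
    (AlmostBlow.awayFrom_comap (𝓘 := i.ker) b).symm
  haveI : IsIso (w ∣_ (b ⁻¹ᵁ i.ker.support.compl)) :=
    e1 ▸ FlatBlowUp.isIso_restrict_torsion (FlatBlowUp.isTorsionIdeal_supportedOn h.locPrincipal)
  haveI := h1
  exact IsIso.of_isIso_comp_left (w ∣_ (b ⁻¹ᵁ i.ker.support.compl)) _

theorem range_union (h : HTop.IsAlmostBlowUpSquare e π b i) (x : X) :
    x ∈ Set.range i ∨ x ∈ Set.range b := by
  haveI := h.isClosedImmersion
  haveI := isIso_restrict_square h
  by_cases hx : x ∈ (i.ker.support : Set X)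
  · left
    have h' : x ∈ closure (Set.range i) := by rw [i.support_ker] at hx; exact hx
    rwa [i.isClosedEmbedding.isClosed_range.closure_eq] at h'
  · right
    obtain ⟨y, hy⟩ := (b ∣_ i.ker.support.compl).homeomorph.surjective ⟨x, hx⟩
    exact ⟨y.1, (morphismRestrict_base_coe b _ y).symm.trans (congrArg Subtype.val hy)⟩

theorem app_surjective_of_isIso {Y Y' : Scheme.{u}} (g : Y' ⟶ Y) (U W : Y.Opens) (hW : W ≤ U) [IsIso (g ∣_ U)] :
    Function.Surjective (g.app W).hom := by
  have e : U.ι ''ᵁ (U.ι ⁻¹ᵁ W) = W := by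
    rw [Scheme.Hom.image_preimage_eq_opensRange_inf, Scheme.Opens.opensRange_ι, inf_eq_right.2 hW]
  have h1 := morphismRestrict_app g U (U.ι ⁻¹ᵁ W)
  have h2 : IsIso ((g ∣_ U).app (U.ι ⁻¹ᵁ W)) := inferInstance
  rw [h1] at h2
  haveI := h2
  haveI h3 : IsIso (g.app (U.ι ''ᵁ (U.ι ⁻¹ᵁ W))) :=
    IsIso.of_isIso_comp_right (g.app (U.ι ''ᵁ (U.ι ⁻¹ᵁ W)))
      (Y'.presheaf.map (eqToHom (image_morphismRestrict_preimage g U (U.ι ⁻¹ᵁ W))).op)
  rw [e] at h3
  haveI := h3
  exact (ConcreteCategory.bijective_of_isIso (g.app W)).2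

variable [IsAffine X]

/-- Sections vanishing on the centre and on the almost blow-up are nilpotent. -/
theorem isNilpotent_of_kernel (h : HTop.IsAlmostBlowUpSquare e π b i) (d : Γ(X, ⊤)) (hi : i.appTop.hom d = 0)
    (hb : b.appTop.hom d = 0) : IsNilpotent d := by
  refine (Scheme.isNilpotent_iff_basicOpen_eq_bot d).2 (le_bot_iff.1 fun x hx => ?_)
  rcases range_union h x with ⟨y, rfl⟩ | ⟨y, rfl⟩
  · have : y ∈ i ⁻¹ᵁ X.basicOpen d := hx
    rw [Scheme.preimage_basicOpen, show (i.app ⊤) d = 0 from hi, Scheme.basicOpen_zero] at this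
    exact this.elim
  · have : y ∈ b ⁻¹ᵁ X.basicOpen d := hx
    rw [Scheme.preimage_basicOpen, show (b.app ⊤) d = 0 from hb, Scheme.basicOpen_zero] at this
    exact this.elim

omit [IsAffine X] in
theorem pow_mem_smul {A B : Type*} [CommRing A] [CommRing B] [Algebra A B] (M : Subalgebra A B) (I : Ideal A)
    {x : B} {m : ℕ} (h : x ^ m ∈ I • Subalgebra.toSubmodule M) (k : ℕ) :
    x ^ (m * k) ∈ I ^ k • Subalgebra.toSubmodule M := by
  induction k with
  | zero => simp
  | succ k ih =>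
    rw [Nat.mul_succ, pow_add x (m * k) m]
    refine Submodule.smul_induction_on ih (fun r hr c hc => ?_) (fun c c' hc hc' => ?_)
    · refine Submodule.smul_induction_on h (fun r' hr' c' hc' => ?_) (fun c₁ c₂ hc₁ hc₂ => ?_)
      · rw [smul_mul_smul_comm]
        exact Submodule.smul_mem_smul (by rw [pow_succ]; exact Ideal.mul_mem_mul hr hr') (M.mul_mem hc hc')
      · rw [mul_add]
        exact add_mem hc₁ hc₂
    · rw [add_mul]
      exact add_mem hc hc'

/-- An element of an integral algebra which is nilpotent modulo a finitely generated ideal where the structure map is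
invertible up to powers is, after a power, in the image of that ideal. -/
theorem exists_pow_mem_image {A B : Type u} [CommRing A] [CommRing B] [Algebra A B] [Algebra.IsIntegral A B]
    (I : Ideal A) (hI : I.FG) (hloc : ∀ f ∈ I, ∀ c : B, ∃ k : ℕ, f ^ k • c ∈ (Algebra.linearMap A B).range)
    {x : B} (hx : x ∈ (I.map (algebraMap A B)).radical) :
    ∃ n₀, ∀ n ≥ n₀, ∃ d ∈ I, algebraMap A B d = x ^ n := by
  classical
  obtain ⟨m, hm⟩ := hx
  have hm' : x ^ m ∈ I • (⊤ : Submodule A B) := by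
    rw [Ideal.smul_top_eq_map]
    exact hm
  obtain ⟨G, hG⟩ : ∃ G : Finset B, x ^ m ∈ I • Submodule.span A (G : Set B) := by
    refine Submodule.smul_induction_on hm' (fun r hr c _ => ⟨{c}, Submodule.smul_mem_smul hr
      (Submodule.subset_span (by simp))⟩) (fun c c' hc hc' => ?_)
    obtain ⟨G, hG⟩ := hc
    obtain ⟨G', hG'⟩ := hc'
    exact ⟨G ∪ G', add_mem (Submodule.smul_mono le_rfl (Submodule.span_mono (by simp)) hG)
      (Submodule.smul_mono le_rfl (Submodule.span_mono (by simp)) hG')⟩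
  let M := Algebra.adjoin A ((insert x G : Finset B) : Set B)
  have hGM : Submodule.span A (G : Set B) ≤ Subalgebra.toSubmodule M :=
    Submodule.span_le.2 fun c hc => Algebra.subset_adjoin (Finset.mem_coe.2 (Finset.mem_insert_of_mem hc))
  have hxM : x ∈ M := Algebra.subset_adjoin (Finset.mem_coe.2 (Finset.mem_insert_self _ _))
  obtain ⟨gens, hgens⟩ : (Subalgebra.toSubmodule M).FG :=
    fg_adjoin_of_finite (Finset.finite_toSet _) fun c _ => Algebra.IsIntegral.isIntegral c
  let Q : Submodule A B := (Algebra.linearMap A B).range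
  let cond : Ideal A := ⨅ c : gens, Submodule.comap (LinearMap.toSpanSingleton A B c.1) Q
  have hle : I ≤ cond.radical := fun f hf => by
    choose! k hk using hloc f hf
    refine ⟨gens.sup k, Submodule.mem_iInf _ |>.2 fun c => ?_⟩
    show f ^ gens.sup k • c.1 ∈ Q
    obtain ⟨d, hd⟩ := Nat.exists_eq_add_of_le (Finset.le_sup c.2 (f := k))
    rw [hd, add_comm, pow_add, mul_smul]
    exact Q.smul_mem _ (hk c.1)
  obtain ⟨c₀, hc₀⟩ := Ideal.exists_pow_le_of_le_radical_of_fg hle hI
  have hkey : I ^ c₀ • Subalgebra.toSubmodule M ≤ Q := by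
    rw [← hgens]
    refine Submodule.smul_le.2 fun r hr c hc => ?_
    induction hc using Submodule.span_induction with
    | mem c hc => exact (Submodule.mem_iInf _).1 (hc₀ hr) ⟨c, hc⟩
    | zero => simp
    | add _ _ _ _ h h' => rw [smul_add]; exact Q.add_mem h h'
    | smul a c _ h => rw [smul_comm]; exact Q.smul_mem a h
  refine ⟨m * (c₀ + 1), fun n hn => ?_⟩
  obtain ⟨r, rfl⟩ := Nat.exists_eq_add_of_le hn
  have h1 := pow_mem_smul M I (Submodule.smul_mono le_rfl hGM hG) (c₀ + 1)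
  have h2 : x ^ (m * (c₀ + 1) + r) ∈ I ^ (c₀ + 1) • Subalgebra.toSubmodule M := by
    rw [pow_add x (m * (c₀ + 1)) r]
    refine Submodule.smul_induction_on h1 (fun a ha c hc => ?_) (fun c c' hc hc' => ?_)
    · rw [smul_mul_assoc]
      exact Submodule.smul_mem_smul ha (M.mul_mem hc (M.pow_mem hxM r))
    · rw [add_mul]; exact add_mem hc hc'
  rw [pow_succ', Submodule.mul_smul] at h2
  have h3 : x ^ (m * (c₀ + 1) + r) ∈ I • Q := Submodule.smul_mono le_rfl hkey h2
  have h4 : I • Q = Submodule.map (Algebra.linearMap A B) I := by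
    rw [show Q = Submodule.map (Algebra.linearMap A B) ⊤ from LinearMap.range_eq_map _, ← Submodule.map_smul'',
      Ideal.smul_eq_mul, Ideal.mul_top]
  rw [h4] at h3
  exact h3

/-- Compatible sections on the centre and on the almost blow-up come from the base up to `p`-th powers. -/
theorem exists_lift_pow {p : ℕ} [Fact p.Prime] (hp : (p : Γ(X, ⊤)) = 0)
    (h : HTop.IsAlmostBlowUpSquare e π b i) (t : Γ(Z, ⊤)) (s : Γ(X', ⊤))
    (hts : π.appTop.hom t = e.appTop.hom s) :
    ∃ (N : ℕ) (a : Γ(X, ⊤)), i.appTop.hom a = t ^ p ^ N ∧ b.appTop.hom a = s ^ p ^ N := by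
  haveI := h.isClosedImmersion
  haveI := h.finitePresentation_base
  haveI := h.isProper
  let φ := b.appTop.hom
  let I := i.ker.ideal ⟨⊤, isAffineOpen_top X⟩
  have hI : I.FG := AbsApprox.fg_ker_ideal_of_lfp i _
  have hIker : I = RingHom.ker i.appTop.hom := Scheme.Hom.ker_apply i _
  obtain ⟨a, ha⟩ : ∃ a, i.appTop.hom a = t := i.app_surjective ⊤ (isAffineOpen_top X) t
  let x := s - φ a
  have hex : e.appTop.hom x = 0 := by
    have h1 : e.appTop.hom (φ a) = π.appTop.hom (i.appTop.hom a) := by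
      change (b.appTop ≫ e.appTop).hom a = (i.appTop ≫ π.appTop).hom a
      rw [← Scheme.Hom.comp_appTop, ← Scheme.Hom.comp_appTop, h.isPullback.w]
    rw [map_sub, h1, ha, hts, sub_self]
  haveI : CompactSpace X' := QuasiCompact.compactSpace_of_compactSpace b
  haveI : QuasiSeparatedSpace X' := quasiSeparatedSpace_of_quasiSeparated b
  letI := φ.toAlgebra
  haveI : Algebra.IsIntegral Γ(X, ⊤) Γ(X', ⊤) := ⟨isIntegral_appTop_of_universallyClosed b⟩
  haveI := isIso_restrict_square h
  have hsupp : ∀ f ∈ I, X.basicOpen f ≤ i.ker.support.compl := fun f hf y hy hmem => by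
    have h1 : y ∈ (i.ker.support : Set X) ∩ (⊤ : X.Opens) := ⟨hmem, trivial⟩
    rw [i.ker.coe_support_inter ⟨⊤, isAffineOpen_top X⟩] at h1
    exact (Scheme.mem_zeroLocus_iff _ _ _).1 h1.1 f hf hy
  have hloc : ∀ f ∈ I, ∀ c : Γ(X', ⊤), ∃ k : ℕ, f ^ k • c ∈ (Algebra.linearMap Γ(X, ⊤) Γ(X', ⊤)).range := by
    intro f hf c
    let W := X.basicOpen f
    obtain ⟨z, hz⟩ := app_surjective_of_isIso b _ W (hsupp f hf)
      ((X'.presheaf.map (homOfLE (le_top : b ⁻¹ᵁ W ≤ ⊤)).op).hom c)
    haveI := (isAffineOpen_top X).isLocalization_basicOpen f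
    obtain ⟨⟨a', _, k, rfl⟩, hk⟩ := IsLocalization.surj (Submonoid.powers f) z
    let g : Γ(X', ⊤) := c * φ f ^ k - φ a'
    have hW : b ⁻¹ᵁ W = X'.basicOpen (φ f) := Scheme.preimage_basicOpen b f
    have hres : (X'.presheaf.map (homOfLE (le_top : b ⁻¹ᵁ W ≤ ⊤)).op).hom g = 0 := by
      have hnat : ∀ r : Γ(X, ⊤), (X'.presheaf.map (homOfLE (le_top : b ⁻¹ᵁ W ≤ ⊤)).op).hom (φ r) =
          (b.app W).hom ((X.presheaf.map (homOfLE (le_top : W ≤ ⊤)).op).hom r) := fun r =>
        (congrArg (fun m => m.hom r) (b.naturality (homOfLE (le_top : W ≤ ⊤)).op)).symm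
      rw [map_sub, map_mul, map_pow, hnat, hnat, ← hz, ← map_pow, ← map_mul, sub_eq_zero]
      refine congrArg (b.app W).hom ?_
      rw [← map_pow]
      exact hk
    have hres' : (g |_ (X'.basicOpen (φ f))) = 0 := by
      show (X'.presheaf.map (homOfLE le_top).op).hom g = 0
      have : ∀ (O : X'.Opens), O = b ⁻¹ᵁ W → (X'.presheaf.map (homOfLE (le_top : O ≤ ⊤)).op).hom g = 0 := by
        rintro _ rfl
        exact hres
      exact this _ hW.symm
    obtain ⟨m, hm⟩ := exists_pow_mul_eq_zero_of_res_basicOpen_eq_zero_of_isCompact X'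
      (U := ⊤) isCompact_univ g (φ f) hres'
    refine ⟨m + k, f ^ m * a', ?_⟩
    rw [Algebra.linearMap_apply, Algebra.smul_def, RingHom.algebraMap_toAlgebra, map_mul, map_pow, map_pow, pow_add]
    simp only [g] at hm
    linear_combination -hm
  have hrad : x ∈ (I.map φ).radical := by
    rw [Ideal.radical_eq_sInf]
    refine Ideal.mem_sInf.2 fun {P} ⟨hP, hPp⟩ => ?_
    haveI : UniversallyClosed (X'.toSpecΓ ≫ Spec.map b.appTop) := by
      rw [← Scheme.toSpecΓ_naturality]
      infer_instance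
    haveI : UniversallyClosed X'.toSpecΓ := .of_comp_of_isSeparated _ (Spec.map b.appTop)
    obtain ⟨y, hy⟩ := X'.toSpecΓ.surjective ⟨P, hPp⟩
    have hiff : ∀ r : Γ(X', ⊤), y ∈ X'.basicOpen r ↔ r ∉ P := fun r => by
      rw [← Scheme.toSpecΓ_preimage_basicOpen]
      show X'.toSpecΓ y ∈ PrimeSpectrum.basicOpen r ↔ _
      rw [hy]
      exact PrimeSpectrum.mem_basicOpen _ _
    have hby : b y ∈ Set.range i := by
      rw [← i.isClosedEmbedding.isClosed_range.closure_eq, ← i.support_ker]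
      refine (i.ker.coe_support_inter ⟨⊤, isAffineOpen_top X⟩ ▸ ?_ : b y ∈ (i.ker.support : Set X) ∩ (⊤ : X.Opens)).1
      refine ⟨(Scheme.mem_zeroLocus_iff _ _ _).2 fun f hf hmem => ?_, trivial⟩
      have h2 : y ∈ X'.basicOpen (φ f) := by
        rw [← Scheme.preimage_basicOpen_top]
        exact hmem
      exact (hiff _).1 h2 (hP (Ideal.mem_map_of_mem φ hf))
    obtain ⟨z, hz⟩ := hby
    obtain ⟨w', hw', -⟩ := Scheme.Pullback.exists_preimage_pullback (f := b) (g := i) y z hz.symm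
    by_contra hxP
    have h3 : h.isPullback.isoPullback.inv w' ∈ e ⁻¹ᵁ X'.basicOpen x := by
      show e (h.isPullback.isoPullback.inv w') ∈ X'.basicOpen x
      rw [← Scheme.Hom.comp_apply, h.isPullback.isoPullback_inv_fst, hw']
      exact (hiff x).2 hxP
    rw [Scheme.preimage_basicOpen, show (e.app ⊤) x = 0 from hex, Scheme.basicOpen_zero] at h3
    exact h3
  obtain ⟨n₀, hn₀⟩ := exists_pow_mem_image (A := Γ(X, ⊤)) (B := Γ(X', ⊤)) I hI hloc hrad
  obtain ⟨d, hd, hdx⟩ := hn₀ (p ^ n₀) (Nat.lt_pow_self (Fact.out : p.Prime).one_lt).le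
  refine ⟨n₀, a ^ p ^ n₀ + d, ?_, ?_⟩
  · rw [map_add, map_pow, ha]
    rw [hIker, RingHom.mem_ker] at hd
    rw [hd, add_zero]
  · have hp' : (p : Γ(X', ⊤)) = 0 := by rw [← map_natCast φ, hp, map_zero]
    rcases subsingleton_or_nontrivial Γ(X', ⊤) with hs | hs
    · exact Subsingleton.elim _ _
    haveI : CharP Γ(X', ⊤) p := (CharP.charP_iff_prime_eq_zero Fact.out).2 hp'
    show φ _ = _
    rw [map_add, map_pow, show φ d = x ^ p ^ n₀ from hdx, ← add_pow_char_pow]
    simp [x]

/-- Two sections agreeing on the centre and on the almost blow-up agree up to `p`-th powers. -/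
theorem exists_pow_eq {p : ℕ} [Fact p.Prime] (hp : (p : Γ(X, ⊤)) = 0) (h : HTop.IsAlmostBlowUpSquare e π b i)
    (a c : Γ(X, ⊤)) (hi : i.appTop.hom a = i.appTop.hom c) (hb : b.appTop.hom a = b.appTop.hom c) :
    ∃ N : ℕ, a ^ p ^ N = c ^ p ^ N := by
  obtain ⟨n, hn⟩ := isNilpotent_of_kernel h (a - c) (by rw [map_sub, hi, sub_self]) (by rw [map_sub, hb, sub_self])
  rcases subsingleton_or_nontrivial Γ(X, ⊤) with hs | hs
  · exact ⟨0, Subsingleton.elim _ _⟩
  haveI : CharP Γ(X, ⊤) p := (CharP.charP_iff_prime_eq_zero Fact.out).2 hp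
  refine ⟨n, sub_eq_zero.1 ?_⟩
  rw [← sub_pow_char_pow]
  exact pow_eq_zero_of_le (Nat.lt_pow_self (Fact.out : p.Prime).one_lt).le hn

end Groth.Agent.HTopFrob

end
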