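import Groth.Agent.HTopFrob.Colim
import Groth.Agent.HTopFrob.Square
import Groth.Agent.HTopAbu.Criterion
import Groth.Agent.LBDesc.Func
import Mathlib

/-!
# The h sheaf of sections up to `p`-th powers
-/

set_option autoImplicit false
set_option linter.style.haveILetI false
set_option backward.isDefEq.respectTransparency false
set_option backward.isDefEq.respectTransparency.types false

universe u

open CategoryTheory CategoryTheory.Limits AlgebraicGeometry TopologicalSpace Opposite

noncomputable section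

namespace Groth.Agent.HTopFrob

open HTop (FrobColimSections)

variable {p : ℕ} {S : Scheme.{u}}

variable (p S) in
/-- The Zariski sheafification. -/
abbrev Q : (Over S)ᵒᵖ ⥤ Type (u + 1) := (Jz S).sheafify (P p S)

variable (p S) in
/-- The unit. -/
abbrev unit : P p S ⟶ Q p S := (Jz S).toSheafify (P p S)

/-- The class of a representative in the sheafification. -/
def cls (X : Over S) (n : ℕ) (a : Γ(X.left, ⊤)) : (Q p S).obj (op X) :=
  (unit p S).app (op X) (ULift.up (FrobColimSections.mk p n a))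

theorem exists_cls (X : Over S) [CompactSpace X.left] [QuasiSeparatedSpace X.left] (q : (Q p S).obj (op X)) :
    ∃ (n : ℕ) (a : Γ(X.left, ⊤)), q = cls X n a := by
  obtain ⟨⟨y⟩, hy⟩ := (bijective_toSheafify X).2 q
  obtain ⟨n, a, rfl⟩ := exists_mk y
  exact ⟨n, a, hy.symm⟩

theorem map_cls {X Y : Over S} (f : Y ⟶ X) (n : ℕ) (a : Γ(X.left, ⊤)) :
    (Q p S).map f.op (cls X n a) = cls Y n (f.left.appTop.hom a) :=
  (NatTrans.naturality_apply (unit p S) f.op _).symm

theorem cls_eq_iff (X : Over S) [CompactSpace X.left] (n : ℕ) (a c : Γ(X.left, ⊤)) :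
    cls (p := p) X n a = cls X n c ↔ ∃ i : ℕ, a ^ p ^ i = c ^ p ^ i := by
  refine ⟨fun h => ?_, fun h => ?_⟩
  · exact (mk_eq_mk_same n a c).1 (congrArg ULift.down (injective_toSheafify X h))
  · exact congrArg (fun z => (unit p S).app (op X) (ULift.up z)) ((mk_eq_mk_same n a c).2 h)

theorem cls_raise (X : Over S) (n i : ℕ) (a : Γ(X.left, ⊤)) :
    cls (p := p) X n a = cls X (n + i) (a ^ p ^ i) :=
  congrArg (fun z => (unit p S).app (op X) (ULift.up z)) (mk_raise n i a)

theorem natCast_eq_zero (hS : (p : Γ(S, ⊤)) = 0) (X : Over S) : (p : Γ(X.left, ⊤)) = 0 := by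
  rw [← map_natCast X.hom.appTop.hom, hS, map_zero]

theorem flatProperCond : HTopAbu.FlatProperCond (Q p S) := by
  intro X Y f hY hs hfl hp _
  haveI := hY
  haveI := hs
  haveI := hfl
  haveI := hp
  haveI : CompactSpace X.left := QuasiCompact.compactSpace_of_compactSpace f.left
  haveI : QuasiSeparatedSpace X.left := quasiSeparatedSpace_of_quasiSeparated f.left
  let R : Over S := Over.mk (pullback.fst f.left f.left ≫ X.hom)
  let r₁ : R ⟶ X := Over.homMk (pullback.fst f.left f.left) rfl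
  let r₂ : R ⟶ X := Over.homMk (pullback.snd f.left f.left) (by
    show pullback.snd f.left f.left ≫ X.hom = pullback.fst f.left f.left ≫ X.hom
    rw [← Over.w f, ← pullback.condition_assoc])
  haveI : CompactSpace R.left := QuasiCompact.compactSpace_of_compactSpace (pullback.fst f.left f.left)
  rw [Presieve.isSheafFor_singleton]
  intro x hx
  obtain ⟨n, a, rfl⟩ := exists_cls X x
  have h := hx r₁ r₂ (by ext; exact pullback.condition)
  rw [map_cls, map_cls, cls_eq_iff] at h
  obtain ⟨N, hN⟩ := h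
  obtain ⟨c, hc, hu⟩ := LBDesc.existsUnique_desc f.left (a ^ p ^ N) (fun {T} y₁ y₂ hy => by
    have h1 := congrArg (pullback.lift y₁ y₂ hy).appTop.hom hN
    rw [← map_pow, ← map_pow] at h1
    have e1 : (pullback.fst f.left f.left).appTop ≫ (pullback.lift y₁ y₂ hy).appTop = y₁.appTop := by
      rw [← Scheme.Hom.comp_appTop, pullback.lift_fst]
    have e2 : (pullback.snd f.left f.left).appTop ≫ (pullback.lift y₁ y₂ hy).appTop = y₂.appTop := by
      rw [← Scheme.Hom.comp_appTop, pullback.lift_snd]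
    rw [← e1, ← e2]
    exact h1)
  refine ⟨cls Y (n + N) c, ?_, fun y hy => ?_⟩
  · show (Q p S).map f.op _ = _
    rw [map_cls, cls_raise X n N a, show f.left.appTop.hom c = a ^ p ^ N from hc]
  · obtain ⟨m, d, rfl⟩ := exists_cls Y y
    rw [map_cls, cls_raise X m (n + N) (f.left.appTop.hom d), cls_raise X n (m + N) a,
      show n + (m + N) = m + (n + N) by omega, cls_eq_iff] at hy
    obtain ⟨i, hi⟩ := hy
    rw [cls_raise Y m (n + N) d, cls_raise Y (n + N) m c, show n + N + m = m + (n + N) by omega, cls_eq_iff]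
    refine ⟨i, ?_⟩
    obtain ⟨e, -, he⟩ := LBDesc.existsUnique_desc f.left (f.left.appTop.hom ((c ^ p ^ m) ^ p ^ i))
      (fun {T} y₁ y₂ hy => by
        have e1 : f.left.appTop ≫ y₁.appTop = f.left.appTop ≫ y₂.appTop := by
          rw [← Scheme.Hom.comp_appTop, ← Scheme.Hom.comp_appTop, hy]
        exact congrArg (fun g => g.hom ((c ^ p ^ m) ^ p ^ i)) e1)
    refine (he _ ?_).trans (he _ rfl).symm
    show f.left.appTop.hom _ = _
    rw [map_pow, map_pow, hi, map_pow, map_pow, show f.left.appTop.hom c = a ^ p ^ N from hc]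
    simp only [← pow_mul, ← pow_add]
    congr 2
    omega

theorem twoSquareCond [Fact p.Prime] (hS : (p : Γ(S, ⊤)) = 0) : HTopAbu.TwoSquareCond (Q p S) := by
  intro E Z X' X e π b i hX hsq _ t s hts
  haveI := hX
  haveI := hsq.isClosedImmersion
  haveI := hsq.isProper
  haveI : IsAffine Z.left := isAffine_of_isAffineHom i.left
  haveI : CompactSpace X'.left := QuasiCompact.compactSpace_of_compactSpace b.left
  haveI : QuasiSeparatedSpace X'.left := quasiSeparatedSpace_of_quasiSeparated b.left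
  haveI : IsClosedImmersion e.left :=
    MorphismProperty.of_isPullback (P := @IsClosedImmersion) hsq.isPullback.flip ‹_›
  haveI : CompactSpace E.left := QuasiCompact.compactSpace_of_compactSpace e.left
  obtain ⟨n₁, a₁, rfl⟩ := exists_cls Z t
  obtain ⟨n₂, a₂, rfl⟩ := exists_cls X' s
  rw [cls_raise Z n₁ n₂ a₁, cls_raise X' n₂ n₁ a₂, add_comm n₂ n₁] at hts ⊢
  rw [map_cls, map_cls, cls_eq_iff] at hts
  obtain ⟨N, hN⟩ := hts
  rw [← map_pow, ← map_pow] at hN
  obtain ⟨M, c, hci, hcb⟩ := exists_lift_pow (natCast_eq_zero hS X) hsq _ _ hN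
  refine ⟨cls X (n₁ + n₂ + N + M) c, ⟨?_, ?_⟩, fun y hy => ?_⟩
  · rw [map_cls, hci, cls_raise Z (n₁ + n₂) N, cls_raise Z (n₁ + n₂ + N) M]
  · rw [map_cls, hcb, cls_raise X' (n₁ + n₂) N, cls_raise X' (n₁ + n₂ + N) M]
  · obtain ⟨m, d, rfl⟩ := exists_cls X y
    obtain ⟨h1, h2⟩ := hy
    let L := n₁ + n₂ + N + M
    have hd : ∀ (Y : Over S) (w : Y ⟶ X) (z : Γ(Y.left, ⊤)), CompactSpace Y.left →
        (Q p S).map w.op (cls X m d) = cls Y (n₁ + n₂) z → w.left.appTop.hom c = z ^ p ^ (N + M) →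
        ∃ k, w.left.appTop.hom ((d ^ p ^ L) ^ p ^ k) = w.left.appTop.hom ((c ^ p ^ m) ^ p ^ k) := by
      intro Y w z hY hw hz
      rw [map_cls, cls_raise Y m L, cls_raise Y (n₁ + n₂) (N + M + m),
        show n₁ + n₂ + (N + M + m) = m + L by omega, cls_eq_iff] at hw
      obtain ⟨k, hk⟩ := hw
      refine ⟨k, ?_⟩
      rw [map_pow, map_pow, hk, map_pow, map_pow, hz]
      simp only [← pow_mul, ← pow_add]
      all_goals omega
    obtain ⟨k₁, hk₁⟩ := hd Z i _ inferInstance h1 (by rw [hci, ← pow_mul, ← pow_add])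
    obtain ⟨k₂, hk₂⟩ := hd X' b _ inferInstance h2 (by rw [hcb, ← pow_mul, ← pow_add])
    obtain ⟨k₃, hk₃⟩ := exists_pow_eq (natCast_eq_zero hS X) hsq ((d ^ p ^ L) ^ p ^ (k₁ + k₂))
      ((c ^ p ^ m) ^ p ^ (k₁ + k₂))
      (by
        simp only [map_pow] at hk₁ ⊢
        exact pow_eq_of_le hk₁ (by omega))
      (by
        simp only [map_pow] at hk₂ ⊢
        exact pow_eq_of_le hk₂ (by omega))
    rw [cls_raise X m L d, cls_raise X L m c, add_comm L m, cls_eq_iff]
    exact ⟨k₁ + k₂ + k₃, by rw [pow_add p (k₁ + k₂) k₃, pow_mul, hk₃, ← pow_mul]⟩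

theorem isSheaf_Jh [Fact p.Prime] (hS : (p : Γ(S, ⊤)) = 0) : Presheaf.IsSheaf (HTop.Jh S) (Q p S) :=
  (isSheaf_iff_isSheaf_of_type _ _).2 (HTopAbu.isSheaf_Jh_of_cond
    ((isSheaf_iff_isSheaf_of_type _ _).1 ((Jz S).sheafify_isSheaf (P p S))) flatProperCond (twoSquareCond hS))

end Groth.Agent.HTopFrob

end
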